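import Cfsg.Agent.N2.Cl.Sz.Abs

/-!
# N2, the sharp size lemma for elements of prime order (helper96)

`size_U`, `size_Sp`, `size_O`, `size_L` : `μ` are the multiplicities of the eigenvalues of `u`, `u ^ r = 1`.
-/

set_option autoImplicit false
set_option linter.unusedSectionVars false
set_option maxHeartbeats 400000

namespace Cfsg.Agent.N2C.Sz

open Cfsg Cfsg.Agent.DS.Cl Cfsg.Agent.DS.Cl.Fwd Cfsg.Agent.SB.Cl Module Matrix
open Cfsg.Agent.N2C.Cyc
open Cfsg.Agent.SB.Idem (piB piB_bij gram b_ap_ap b_sum_left b_sum_right)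
open Cfsg.Agent.H6.M11 (av mul_av comm_av isProj_av fix mem_fix)
open Cfsg.Agent.LieClassical.OrthCore (O Nondeg)

/-! ### numbers -/

theorem pay {Q Q₀ : ℕ} (h0 : 0 < Q) (h : Q ≤ Q₀) {a : ℚ} (ha : ((Q : ℚ) + 1) / Q ≤ a) : ((Q₀ : ℚ) + 1) ^ 2 ≤ a ^ 2 * Q₀ ^ 2 := by
  have h1 : (0 : ℚ) < Q := by exact_mod_cast h0
  have h2 : (Q : ℚ) ≤ Q₀ := by exact_mod_cast h
  rw [← mul_pow]
  refine pow_le_pow_left₀ (by positivity) (le_trans ?_ (mul_le_mul_of_nonneg_right ha (by positivity))) 2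
  rw [div_mul_eq_mul_div, le_div_iff₀ h1]
  nlinarith

theorem one_le_fr {Q : ℕ} (h0 : 0 < Q) : (1 : ℚ) ≤ ((Q : ℚ) + 1) / Q :=
  (one_le_div (by exact_mod_cast h0)).2 (by linarith)

theorem fin_le {x y Q q a b ν δ : ℕ} (hQ : 0 < Q) (hq : 0 < q) (ha : a ≤ ν) (hb : b ≤ δ)
    (h : (x : ℚ) ^ 2 ≤ ((((Q : ℚ) + 1) / Q) ^ a * (((q : ℚ) + 1) / q) ^ b) ^ 2 * (y ^ 2 : ℕ)) :
    x * Q ^ ν * q ^ δ ≤ y * (Q + 1) ^ ν * (q + 1) ^ δ := by
  rw [Nat.cast_pow, ← mul_pow, pow_le_pow_iff_left₀ (by positivity) (by positivity) two_ne_zero] at h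
  have h1 := h.trans (mul_le_mul_of_nonneg_right (mul_le_mul (pow_le_pow_right₀ (one_le_fr hQ) ha) (pow_le_pow_right₀ (one_le_fr hq) hb)
    (by positivity) (by positivity)) (Nat.cast_nonneg y))
  rw [div_pow, div_pow, div_mul_div_comm, div_mul_eq_mul_div, le_div_iff₀ (by positivity), ← mul_assoc, mul_comm _ (y : ℚ),
    ← mul_assoc] at h1
  exact_mod_cast h1

theorem root_bil {K : Type} [Field K] [Fintype K] {Q j : ℕ} (h1 : Q ^ 2 = Fintype.card K ^ j) (h2 : ∀ c : K, c = c ^ Q) :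
    ∃ k, Q = Fintype.card K ^ k := by
  have hq : 1 < Fintype.card K := Fintype.one_lt_card
  obtain ⟨k, rfl | rfl⟩ := Nat.even_or_odd' j
  · exact ⟨k, Nat.pow_left_injective two_ne_zero (by simp only [h1, pow_mul'])⟩
  obtain ⟨s, rfl⟩ : Fintype.card K ^ k ∣ Q := (Nat.pow_dvd_pow_iff two_ne_zero).1 (by
    rw [h1, pow_succ _ (2 * k), pow_mul']; exact dvd_mul_right _ _)
  rw [mul_pow, pow_succ _ (2 * k), pow_mul'] at h1
  have h3 := Nat.eq_of_mul_eq_mul_left (by positivity) h1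
  have h4 : 1 < s := by
    by_contra h
    have : s ^ 2 ≤ 1 ^ 2 := Nat.pow_le_pow_left (by omega) 2
    omega
  have h5 := Nat.le_of_dvd (by omega) ((FiniteField.forall_pow_eq_one_iff K (s - 1)).1 fun x => by
    have h6 := h2 x
    rw [pow_mul, FiniteField.pow_card_pow] at h6
    refine mul_right_cancel (b := x) ?_
    rw [← pow_succ, Nat.sub_add_cancel h4.le, one_mul]
    exact Units.ext (by rw [Units.val_pow_eq_pow_val, ← h6]))
  have h6 : s * 2 ≤ s * s := Nat.mul_le_mul_left s h4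
  rw [← h3, sq] at h5
  omega

theorem even_sum {r : ℕ} [Fact r.Prime] (h2 : 2 < r) {f : ZMod r → ℕ} (h : ∀ i, f (-i) = f i) :
    ∃ s, ∑ i, f i = f 0 + 2 * s := by
  have h1 : ((∑ i ∈ Finset.univ.erase 0, f i : ℕ) : ZMod 2) = 0 := by
    rw [Nat.cast_sum]
    refine Finset.sum_involution (fun i _ => -i) (fun i _ => by rw [h, CharTwo.add_self_eq_zero]) (fun i hi _ k => ?_)
      (fun i hi => Finset.mem_erase.2 ⟨neg_ne_zero.2 (Finset.ne_of_mem_erase hi), Finset.mem_univ _⟩) fun i _ => neg_neg i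
    have : Fact (2 < r) := ⟨h2⟩
    rw [neg_eq_iff_add_eq_zero, ← two_mul, mul_eq_zero] at k
    exact k.elim (fun k => ZMod.neg_one_ne_one (n := r) (by rw [neg_eq_iff_add_eq_zero, one_add_one_eq_two, k])) (Finset.ne_of_mem_erase hi)
  obtain ⟨s, hs⟩ := (ZMod.natCast_eq_zero_iff _ _).1 h1
  exact ⟨s, by rw [← hs, Finset.add_sum_erase _ _ (Finset.mem_univ _)]⟩

theorem ord_le {r : ℕ} [Fact r.Prime] {a i : ZMod r} (ha : a ≠ 0) {T : Finset (ZMod r)} (hT : ∀ j ∈ T, a * j ∈ T) (hi : i ∈ T)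
    (h0 : i ≠ 0) : orderOf a ≤ (T ∩ Finset.univ.erase 0).card := by
  have h1 : ∀ k, a ^ k * i ∈ T := fun k => by
    induction k with
    | zero => simpa using hi
    | succ k ih => rw [pow_succ', mul_assoc]; exact hT _ ih
  rw [← Finset.card_range (orderOf a)]
  refine Finset.card_le_card_of_injOn (fun k => a ^ k * i) (fun k _ => ?_) fun k hk l hl e =>
    pow_injOn_Iio_orderOf (Finset.mem_range.1 hk) (Finset.mem_range.1 hl) (mul_right_cancel₀ h0 e)
  exact Finset.mem_inter.2 ⟨h1 k, Finset.mem_erase.2 ⟨mul_ne_zero (pow_ne_zero _ ha) h0, Finset.mem_univ _⟩⟩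

/-! ### the potential -/

section pot

variable {A K ι : Type} [Ring A] [StarRing A] [Finite A] [Field K] [Fintype K] [Fintype ι] [DecidableEq ι] (e : A ≃+* Matrix ι ι K)
  {L : Type} [Field L] [Algebra K L] [FiniteDimensional K L] (ζ : L) (m : ℕ) [NeZero m]

/-- the number of orbits -/
noncomputable def nn (u : A) (X : Finset (ZMod m)) (d : ℕ) (f : A) : ℕ := (Ts e ζ m u f ∩ X).card / d

variable {e ζ m} {u f g : A}

theorem nn_add (hζ : IsPrimitiveRoot ζ m) (hu : u ^ m = 1) (X : Finset (ZMod m)) (d : ℕ) (hf : CI u f) (hg : CI u g) (h : f * g = 0) :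
    nn e ζ m u X d f + nn e ζ m u X d g ≤ nn e ζ m u X d (f + g) := by
  refine (Nat.div_add_div_le_add_div).trans (Nat.div_le_div_right ?_)
  rw [← Finset.card_union_of_disjoint ((Ts_disj hζ hu hf.cen h).mono Finset.inter_subset_left Finset.inter_subset_left),
    ← Finset.union_inter_distrib_right]
  exact Finset.card_le_card (Finset.inter_subset_inter_right (Finset.union_subset
    (Ts_mono (by rw [add_mul, hf.idem, ← hf.cen g hg.comm, h, add_zero])) (Ts_mono (by rw [add_mul, hg.idem, h, zero_add]))))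

theorem nn_le (d : ℕ) (f : A) :
    nn e ζ m u (Finset.univ.erase 0) d f ≤ (Finset.univ.filter fun i => i ≠ 0 ∧ mu e ζ m u i ≠ 0).card / d :=
  Nat.div_le_div_right (Finset.card_le_card fun _ hi => Finset.mem_filter.2 ⟨Finset.mem_univ _,
    Finset.ne_of_mem_erase (Finset.mem_inter.1 hi).2, mu_ne_zero (Finset.mem_inter.1 hi).1⟩)

theorem pot_mul {a b : ℚ} (ha : 1 ≤ a) (hb : 1 ≤ b) {x y z x' y' z' : ℕ} (h : x + y ≤ z) (h' : x' + y' ≤ z') :
    (a ^ x * b ^ x') ^ 2 * (a ^ y * b ^ y') ^ 2 ≤ (a ^ z * b ^ z') ^ 2 := by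
  rw [← mul_pow, mul_mul_mul_comm, ← pow_add, ← pow_add]
  exact pow_le_pow_left₀ (by positivity) (mul_le_mul (pow_le_pow_right₀ ha h) (pow_le_pow_right₀ hb h') (by positivity) (by positivity)) 2

end pot

variable {K V : Type} [Field K] [Fintype K] [AddCommGroup V] [Module K V] [Finite V] {h : HF K V}

/-- the matrices of the ring of a form -/
noncomputable def eH (h : HF K V) : h.EB ≃+* Matrix (Fin (finrank K V)) (Fin (finrank K V)) K :=
  RingEquiv.ofBijective (piB h (finBasis K V)) (piB_bij h _)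

theorem eH_apply (u : h.EB) : eH h u = piB h (finBasis K V) u := rfl

/-- the scalars -/
def sc (h : HF K V) : K →+* h.EB := algebraMap K (End K V)

theorem sc_eq (c : K) : sc h c = h.eb (c • 1) := Algebra.algebraMap_eq_smul_one (A := End K V) c

theorem gram_det {n : ℕ} (c : Basis (Fin n) K V) : (gram h c).det ≠ 0 := fun h0 => by
  obtain ⟨x, hx, e⟩ := Matrix.exists_mulVec_eq_zero_iff.2 h0
  have h3 : ∑ i, h.τ (x i) • c i = 0 := h.nondeg _ fun w => by
    rw [← c.sum_repr w, b_sum_left]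
    refine Finset.sum_eq_zero fun i _ => mul_eq_zero_of_right _ ?_
    rw [b_sum_right, ← show _ = (0 : K) from congrFun e i]
    exact Finset.sum_congr rfl fun j _ => by rw [h.τ_τ, mul_comm]; rfl
  exact hx (funext fun i => (map_eq_zero h.τ).1 (Fintype.linearIndependent_iff.1 c.linearIndependent _ h3 i))

theorem gram_eq {u : h.EB} (hu : u * star u = 1) :
    (eH h u)ᵀ * gram h (finBasis K V) * (eH h u).map h.τ = gram h (finBasis K V) := by
  rw [eH_apply]
  exact Matrix.ext fun i j => (b_ap_ap h _ u i j).symm.trans (b_of_unit hu _ _)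

theorem mu_zero {L : Type} [Field L] [Algebra K L] [FiniteDimensional K L] (ζ : L) (m : ℕ) [NeZero m] (u : h.EB) :
    mu (eH h) ζ m u 0 = finrank K (LinearMap.ker (h.ap u - 1)) := by
  rw [mu_eq (c := 1) (by rw [ZMod.val_zero, pow_zero, map_one]), eH_apply, SB.Idem.piB_apply, ml_toMatrix, one_smul]

theorem natCast_ne [Nontrivial V] {m : ℕ} (hm : (m : K) ≠ 0) : (m : h.EB) ≠ 0 := by
  have : Nontrivial h.EB := h.ss.1
  rw [← map_natCast (sc h)]
  exact (map_ne_zero _).2 hm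

theorem card_ne {r : ℕ} [Fact r.Prime] (hr : (r : K) ≠ 0) : (Fintype.card K : ZMod r) ≠ 0 := fun k => by
  obtain ⟨p, _, f, hp, hf⟩ := FiniteField.card' K
  rw [ZMod.natCast_eq_zero_iff, hf] at k
  exact hr ((CharP.cast_eq_zero_iff K p r).2 ((Nat.prime_dvd_prime_iff_eq Fact.out hp).1 ((Fact.out : r.Prime).dvd_of_dvd_pow k)).symm.dvd)

variable [Nontrivial V] {r : ℕ} [Fact r.Prime]

/-- **unitary groups** -/
theorem size_U (hU : IsU h) {q : ℕ} (hq : Fintype.card K = q ^ 2) (hr : (r : K) ≠ 0) {u : h.EB} (hu : u * star u = 1) (hm : u ^ r = 1) :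
    ∃ μ : ZMod r → ℕ, Mu (Fintype.card K) (finrank K V) u μ ∧ μ 0 = finrank K (LinearMap.ker (h.ap u - 1)) ∧
      (∀ i, μ (-(q * i)) = μ i) ∧ ∀ e ν δ : ℕ, orderOf (-q : ZMod r) = e →
        (Odd e → (Finset.univ.filter fun i => i ≠ 0 ∧ μ i ≠ 0).card / e ≤ ν) → (μ 0 ≠ 0 → 1 ≤ δ) →
        cU u * (q ^ e) ^ ν * q ^ δ ≤ q ^ (∑ i, μ i ^ 2) * (q ^ e + 1) ^ ν * (q + 1) ^ δ := by
  obtain ⟨L, _, _, _, ζ, hζ⟩ := exists_root K hr
  have h1 := mu_mu (e := eH h) hζ hm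
  rw [Fintype.card_fin] at h1
  have hq0 : 0 < q := Nat.pos_of_ne_zero fun k => by simp [k] at hq
  refine ⟨_, h1, mu_zero ζ r u, ?_, fun e ν δ he hν hδ => ?_⟩
  · obtain ⟨p, _, f, hp, hf⟩ := FiniteField.card' K
    obtain ⟨k, -, hk⟩ := (Nat.dvd_prime_pow hp).1 (show q ∣ p ^ (f : ℕ) by rw [← hf, hq]; exact dvd_pow_self q two_ne_zero)
    have := charP_of_injective_algebraMap (algebraMap K L).injective p
    have : Fact p.Prime := ⟨hp⟩
    exact mu_tw hζ.pow_eq_one (iterateFrobenius L p k) h.τ (fun x => by rw [hk, iterateFrobenius_def]) (tau_pow hU hq) (gram_det _)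
      (gram_eq hu)
  obtain ⟨c, hc⟩ := hU.2
  have ha := one_le_fr (Nat.pow_pos hq0 : 0 < q ^ e)
  have hb := one_le_fr hq0
  have h2 := abs_main h.ss hu hm (natCast_ne hr) (sc h) h.τ (fun c => sc_eq (h := h) c ▸ h.smul_mem_center c)
    (fun c => by rw [sc_eq, sc_eq, sc_star]) (z := sc h c) (w := sc h (c - h.τ c)⁻¹) (e := 1) (fun x _ => by rw [sc_eq, sc_comm])
    (by rw [sc_eq, sc_comm]) (by
      rw [sc_eq c, sc_star, ← sc_eq, ← sc_eq, ← map_sub, ← map_mul, inv_mul_cancel₀ (sub_ne_zero.2 hc.symm), map_one])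
    (fun f => ((((q ^ e : ℕ) + 1 : ℚ) / (q ^ e : ℕ)) ^ (if Odd e then nn (eH h) ζ r u (Finset.univ.erase 0) e f else 0) *
      (((q : ℚ) + 1) / q) ^ nn (eH h) ζ r u {0} 1 f) ^ 2)
    (fun f => one_le_pow₀ (one_le_mul_of_one_le_of_one_le (one_le_pow₀ ha) (one_le_pow₀ hb)))
    (fun f g hf hg k => pot_mul ha hb (by split_ifs; exacts [nn_add hζ hm _ _ hf hg k, le_rfl]) (nn_add hζ hm _ _ hf hg k))
    (fun f hf h0 _ Q j k1 k2 k3 => ?_) (CI.one u) (CI.one u) (one_mul 1)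
  · rw [pU_one, pA_one, h1.card, hq, ← pow_mul, pow_mul'] at h2
    refine fin_le (Nat.pow_pos hq0) hq0 ?_ ?_ h2
    · split_ifs with k
      exacts [(nn_le e 1).trans (hν k), Nat.zero_le _]
    · rw [nn, Nat.div_one]
      by_cases k : 0 ∈ Ts (eH h) ζ r u 1
      · exact (Finset.card_le_card Finset.inter_subset_right).trans (hδ (mu_ne_zero k))
      · rw [Finset.inter_singleton_of_notMem k]
        exact Nat.zero_le _
  obtain ⟨i, hi⟩ := Ts_nonempty (e := eH h) hζ hm h0 hf.idem hf.comm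
  obtain rfl : Q = q ^ j := Nat.pow_left_injective two_ne_zero (by simp only [k1, hq, ← pow_mul, mul_comm])
  have h3 : Odd j := Nat.not_even_iff_odd.1 fun ⟨t, ht⟩ => hc (by rw [k2, ht, ← two_mul, pow_mul, ← hq, FiniteField.pow_card_pow])
  by_cases k : i = 0
  · refine pay hq0 (Nat.le_self_pow h3.pos.ne' q) (le_trans ?_ (le_mul_of_one_le_left (by positivity) (one_le_pow₀ ha)))
    exact le_self_pow₀ hb (by rw [nn, Nat.div_one, Finset.inter_singleton_of_mem (k ▸ hi)]; simp)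
  have h4 : e ∣ j := he ▸ orderOf_dvd_of_pow_eq_one (by
    have h5 := (mul_eq_zero.1 (Ts_pow hζ hi k3)).resolve_right k
    rw [h3.neg_pow, neg_eq_iff_add_eq_zero]
    exact_mod_cast h5)
  have h5 : Odd e := h3.of_dvd_nat h4
  refine pay (Nat.pow_pos hq0) (Nat.pow_le_pow_right hq0 (Nat.le_of_dvd h3.pos h4))
    (le_trans ?_ (le_mul_of_one_le_right (by positivity) (one_le_pow₀ hb)))
  refine le_self_pow₀ ha ?_
  rw [if_pos h5, nn]
  refine (Nat.div_pos (le_trans (le_of_eq ?_) (ord_le (card_ne hr) (fun _ => Ts_frob hζ.pow_eq_one) hi k)) h5.pos).ne'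
  rw [hq, Nat.cast_pow, ← neg_sq, Nat.Coprime.orderOf_pow (by rw [he]; exact h5.coprime_two_right), he]

/-- the projection on the fixed space -/
noncomputable def e0 (h : HF K V) (m : ℕ) (u : h.EB) : h.EB := h.eb (av m (h.ap u))

section e0

variable {m : ℕ} {u : h.EB} (hm : (m : K) ≠ 0) (hu : u * star u = 1) (hp : u ^ m = 1)

include hm hp in
theorem e0_proj : LinearMap.IsProj (LinearMap.ker (h.ap u - 1)) (h.ap (e0 h m u)) := by
  have h1 := isProj_av hm (Y := h.ap u) hp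
  rwa [fix, End.eigenspace_def, one_smul] at h1

include hp in
theorem mul_e0 : u * e0 h m u = e0 h m u := mul_av (Y := h.ap u) hp

theorem e0_cen (x : h.EB) (hx : x * u = u * x) : e0 h m u * x = x * e0 h m u := (comm_av (X := h.ap x) (Y := h.ap u) hx).symm

include hm hp in
theorem e0_mul {x : h.EB} (hx : u * x = x) : e0 h m u * x = x := h.ap_ext fun v =>
  (e0_proj hm hp).map_id _ (sub_eq_zero.2 (congrArg (fun y => h.ap y v) hx))

include hm hu hp in
theorem e0_ci : CI u (e0 h m u) := by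
  have h1 := e0_mul hm hp (x := star (e0 h m u)) (by
    have h2 := congrArg (fun y => u * star y) ((e0_cen u rfl).trans (mul_e0 hp))
    simpa only [star_mul, ← mul_assoc, hu, one_mul] using h2.symm)
  have h2 := congrArg star h1
  rw [star_mul, star_star, h1] at h2
  exact ⟨e0_mul hm hp (mul_e0 hp), h2, e0_cen⟩

include hm hu hp in
theorem nd_fix : ∀ v ∈ LinearMap.ker (h.ap u - 1), (∀ w ∈ LinearMap.ker (h.ap u - 1), h.b w v = 0) → v = 0 := fun v hv H =>
  h.nondeg v fun y => by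
    rw [← (e0_proj hm hp).map_id v hv, ← (e0_ci hm hu hp).st, h.b_star]
    exact H _ ((e0_proj hm hp).map_mem y)

theorem fix_inv {x : h.EB} (hx : x * u = u * x) : ∀ v ∈ LinearMap.ker (h.ap u - 1), h.ap x v ∈ LinearMap.ker (h.ap u - 1) :=
  fun v hv => sub_eq_zero.2 ((congrArg (fun y => h.ap y v) hx).symm.trans (congrArg (h.ap x) (sub_eq_zero.1 hv)))

include hm hp in
theorem le_pA_e0 : Fintype.card K ^ (finrank K (LinearMap.ker (h.ap u - 1)) ^ 2) ≤ pA u (e0 h m u) := by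
  have hp' := e0_proj hm hp
  rw [← Nat.card_eq_fintype_card, ← SB.C2.card_end]
  have h1 : ∀ y : End K (LinearMap.ker (h.ap u - 1)), u * h.eb (Submodule.subtype _ ∘ₗ y ∘ₗ hp'.codRestrict) =
      h.eb (Submodule.subtype _ ∘ₗ y ∘ₗ hp'.codRestrict) := fun y => h.ap_ext fun v => sub_eq_zero.1 (y _).2
  refine Nat.card_le_card_of_injective (fun y => ⟨h.eb (Submodule.subtype _ ∘ₗ y ∘ₗ hp'.codRestrict), ?_, e0_mul hm hp (h1 y)⟩)
    fun y z k => LinearMap.ext fun v => Subtype.ext ?_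
  · rw [h1]
    exact h.ap_ext fun v => congrArg (fun w => (y w : V)) (Subtype.ext (congrArg (fun x => h.ap x v) ((e0_cen u rfl).trans (mul_e0 hp))))
  · have h2 := congrArg (fun x => h.ap x.1 v) k
    rw [← hp'.codRestrict_apply_cod v]
    exact h2

include hm in
theorem cO_le_mul {u : h.EBˣ} (hu : (u : h.EB) * star (u : h.EB) = 1) (hp : (u : h.EB) ^ m = 1) (F : FR h.EB) {Y : Type} [Finite Y]
    (ρ : {v : h.EBˣ // v ∈ F.Iso ∧ v * u = u * v} → Y)
    (hρ : ∀ x y, ρ x = ρ y → ∀ v ∈ LinearMap.ker (h.ap u - 1), h.ap x.1 v = h.ap y.1 v) :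
    cO F u ≤ Nat.card Y * pU (u : h.EB) (1 - e0 h m u) := by
  have h0 := e0_ci hm hu hp
  have h1 := (CI.one _).sub h0 (one_mul _)
  rw [cO, pU, ← Nat.card_prod]
  refine Nat.card_le_card_of_injective (fun x => (ρ x, ⟨(1 - e0 h m u) * x.1, ⟨h1.mul_comm' (congrArg Units.val x.2.2), by
    rw [← mul_assoc, h1.idem]⟩, h1.uni (by rw [x.2.1.1, mul_one])⟩)) fun x y k => Subtype.ext (Units.ext ?_)
  have h2 := Subtype.mk.inj (Prod.mk.inj k).2
  rwa [sub_mul, sub_mul, one_mul, one_mul, h0.cen _ (congrArg Units.val x.2.2), h0.cen _ (congrArg Units.val y.2.2),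
    show (x.1 : h.EB) * e0 h m u = y.1 * e0 h m u from h.ap_ext fun v => hρ x y (Prod.mk.inj k).1 _ ((e0_proj hm hp).map_mem v),
    sub_left_inj] at h2

include hm hu hp in
theorem exists_w (ho : Odd m) : ∃ w, w * u = u * w ∧ w * (u - star u) = 1 - e0 h m u := by
  have h0 := e0_ci hm hu hp
  have hu' := mul_eq_one_comm.1 hu
  have h1 : e0 h m u * u = e0 h m u := h0.comm.trans (mul_e0 hp)
  have h2 : e0 h m u * (u - star u) = 0 := by rw [mul_sub, ← h1, mul_assoc _ u (star u), hu, mul_one, h1, h1, sub_self]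
  obtain ⟨δ, hδ⟩ : IsUnit (u - star u + e0 h m u) := (LinearMap.isUnit_iff_ker_eq_bot (h.ap _)).2 (LinearMap.ker_eq_bot'.2 fun v hv => by
    have h3 : h.ap (e0 h m u) v = 0 := by
      have h4 := congrArg (h.ap (e0 h m u)) hv
      rwa [← h.ap_mul, mul_add, h2, zero_add, h0.idem, map_zero] at h4
    rw [h.ap_add, h3, add_zero, h.ap_sub, sub_eq_zero] at hv
    have h4 : (h.ap u ^ 2) v = (1 : K) • v := by rw [sq, End.mul_apply, hv, ← h.ap_mul, hu, one_smul, h.ap_one]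
    obtain ⟨k, rfl⟩ := ho
    have h5 := pow_apply_eig h4 (k + 1)
    rw [one_pow, one_smul, ← pow_mul, mul_add, mul_one, pow_succ', show h.ap u ^ (2 * k + 1) = 1 from hp, mul_one] at h5
    rw [← h3, (e0_proj hm hp).map_id v (sub_eq_zero.2 h5)])
  have h3 : Commute u (δ : h.EB) := by
    rw [hδ]
    exact ((Commute.refl u).sub_right (hu.trans hu'.symm)).add_right h0.comm.symm
  refine ⟨(δ⁻¹ : h.EBˣ) * (1 - e0 h m u), (h3.units_inv_right.mul_right ((Commute.one_right u).sub_right h0.comm.symm)).symm, ?_⟩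
  rw [mul_assoc, Units.inv_mul_eq_iff_eq_mul, hδ, sub_mul, one_mul, h2, sub_zero, add_mul, mul_sub _ 1, mul_sub _ 1, mul_one, mul_one,
    h0.idem, sub_self, add_zero, ← h0.cen _ ((Commute.refl u).sub_left (hu'.trans hu.symm)), h2, sub_zero]

end e0

/-- bilinear forms: the part without fixed vectors -/
theorem size_bil (hτ : ∀ c, h.τ c = c) (h2 : 2 < r) (hr : (r : K) ≠ 0) {u : h.EB} (hu : u * star u = 1) (hm : u ^ r = 1) :
    ∃ μ : ZMod r → ℕ, Mu (Fintype.card K) (finrank K V) u μ ∧ μ 0 = finrank K (LinearMap.ker (h.ap u - 1)) ∧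
      (∀ i, μ (-i) = μ i) ∧ ∃ s, ∑ i, μ i ^ 2 = μ 0 ^ 2 + 2 * s ∧ ∀ e ν : ℕ, orderOf (Fintype.card K : ZMod r) = e →
        (Even e → (Finset.univ.filter fun i => i ≠ 0 ∧ μ i ≠ 0).card / e ≤ ν) →
        pU u (1 - e0 h r u) * (Fintype.card K ^ (e / 2)) ^ ν ≤ Fintype.card K ^ s * (Fintype.card K ^ (e / 2) + 1) ^ ν := by
  obtain ⟨L, _, _, _, ζ, hζ⟩ := exists_root K hr
  have h1 := mu_mu (e := eH h) hζ hm
  rw [Fintype.card_fin] at h1
  have hq0 : 0 < Fintype.card K := Fintype.card_pos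
  have hneg : ∀ i, mu (eH h) ζ r u (-i) = mu (eH h) ζ r u i := fun i => by
    simpa using mu_tw hζ.pow_eq_one (RingHom.id L) h.τ (k := 1) (fun x => (pow_one x).symm) (fun x => (hτ x).trans (pow_one x).symm)
      (gram_det _) (gram_eq hu) i
  obtain ⟨s, hs⟩ := even_sum h2 (f := fun i => mu (eH h) ζ r u i ^ 2) fun i => by rw [hneg]
  refine ⟨_, h1, mu_zero ζ r u, hneg, s, hs, fun e ν he hν => ?_⟩
  have h0 := e0_ci hr hu hm
  have h0' := (CI.one _).sub h0 (one_mul _)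
  obtain ⟨w, hw, hw'⟩ := exists_w hr hu hm ((Fact.out : r.Prime).odd_of_ne_two h2.ne')
  have ha := one_le_fr (Nat.pow_pos hq0 : 0 < Fintype.card K ^ (e / 2))
  have hb := one_le_fr hq0
  have h3 := abs_main h.ss hu hm (natCast_ne hr) (sc h) h.τ (fun c => sc_eq (h := h) c ▸ h.smul_mem_center c)
    (fun c => by rw [sc_eq, sc_eq, sc_star]) (z := u) (fun x hx => hx.symm) hw hw'
    (fun f => ((((Fintype.card K ^ (e / 2) : ℕ) + 1 : ℚ) / (Fintype.card K ^ (e / 2) : ℕ)) ^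
      (if Even e then nn (eH h) ζ r u (Finset.univ.erase 0) e f else 0) * (((Fintype.card K : ℚ) + 1) / Fintype.card K) ^ 0) ^ 2)
    (fun f => one_le_pow₀ (one_le_mul_of_one_le_of_one_le (one_le_pow₀ ha) (one_le_pow₀ hb)))
    (fun f g hf hg k => pot_mul ha hb (by split_ifs; exacts [nn_add hζ hm _ _ hf hg k, le_rfl]) le_rfl)
    (fun f hf h0 hef Q j k1 k2 k3 => ?_) h0' h0' h0'.idem
  · have h4 := (Nat.mul_le_mul_right _ (le_pA_e0 hr hm)).trans (pA_add h0 h0' ((CI.one _).orth h0 (one_mul _)))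
    rw [add_sub_cancel, pA_one, h1.card, hs, ← mu_zero ζ r u, pow_add] at h4
    have h5 := Nat.le_of_mul_le_mul_left h4 (Nat.pow_pos hq0)
    rw [pow_mul'] at h5
    simpa using fin_le (δ := 0) (Nat.pow_pos hq0) hq0 (by
      split_ifs with k
      exacts [(nn_le e _).trans (hν k), Nat.zero_le _]) le_rfl
      (h3.trans (mul_le_mul_of_nonneg_left (Nat.cast_le.2 h5) (sq_nonneg _)))
  obtain ⟨i, hi⟩ := Ts_nonempty (e := eH h) hζ hm h0 hf.idem hf.comm
  obtain ⟨k, rfl⟩ := root_bil k1 fun c => (hτ c).symm.trans (k2 c)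
  have h4 : i ≠ 0 := fun k => Ts_zero (w := f * w * (star u * (u + 1))) (by
    rw [mul_assoc, show star u * (u + 1) * (u - 1) = star u * u * u - star u by noncomm_ring, mul_eq_one_comm.1 hu, one_mul, mul_assoc,
      hw', ← h0'.cen f hf.comm, hef]) (k ▸ hi)
  have h5 : (Fintype.card K : ZMod r) ^ k = -1 := by
    have h5 := (mul_eq_zero.1 (Ts_pow hζ hi k3)).resolve_right h4
    rw [eq_neg_iff_add_eq_zero]
    exact_mod_cast h5
  have : Fact (2 < r) := ⟨h2⟩
  have h6 : ¬ e ∣ k := fun t => ZMod.neg_one_ne_one (n := r) (h5.symm.trans (orderOf_dvd_iff_pow_eq_one.1 (he ▸ t)))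
  have h7 : e ∣ k * 2 := he ▸ orderOf_dvd_of_pow_eq_one (by rw [pow_mul, h5, neg_one_sq])
  have h8 : Even e := Nat.not_odd_iff_even.1 fun t => h6 (t.coprime_two_right.dvd_of_dvd_mul_right h7)
  have h9 := Nat.le_of_dvd (Nat.pos_of_ne_zero fun t => h6 (by rw [show k = 0 by omega]; exact dvd_zero e)) h7
  refine pay (Nat.pow_pos hq0) (Nat.pow_le_pow_right hq0 (show e / 2 ≤ k by omega)) ?_
  rw [pow_zero, mul_one]
  refine le_self_pow₀ ha ?_
  rw [if_pos h8, nn]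
  exact (Nat.div_pos (he.ge.trans (ord_le (card_ne hr) (fun _ => Ts_frob hζ.pow_eq_one) hi h4))
    (Nat.pos_of_ne_zero fun t => by rw [t, zero_dvd_iff] at h6 h7; omega)).ne'

/-- **symplectic groups** -/
theorem size_Sp {F : FR h.EB} (hS : IsSp h F) (hn : Even (finrank K V)) (h2 : 2 < r) (hr : (r : K) ≠ 0) {u : h.EBˣ} (hu : u ∈ F.Iso)
    (hm : u ^ r = 1) : ∃ μ : ZMod r → ℕ, Mu (Fintype.card K) (finrank K V) (u : h.EB) μ ∧
      μ 0 = finrank K (LinearMap.ker (h.ap u - 1)) ∧ (∀ i, μ (-i) = μ i) ∧ ∀ e ν : ℕ, orderOf (Fintype.card K : ZMod r) = e →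
        (Even e → (Finset.univ.filter fun i => i ≠ 0 ∧ μ i ≠ 0).card / e ≤ ν) →
        cO F u * (Fintype.card K ^ (e / 2)) ^ ν ≤
          Fintype.card K ^ ((∑ i, μ i ^ 2 + μ 0) / 2) * (Fintype.card K ^ (e / 2) + 1) ^ ν := by
  have hm' : (u : h.EB) ^ r = 1 := by rw [← Units.val_pow_eq_pow_val, hm, Units.val_one]
  obtain ⟨μ, h1, h3, h4, s, hs, h5⟩ := size_bil hS.1 h2 hr hu.1 hm'
  refine ⟨μ, h1, h3, h4, fun e ν he hν => ?_⟩
  obtain ⟨t, ht⟩ := even_sum h2 h4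
  obtain ⟨k, hk⟩ : Even (μ 0) := by
    rw [h1.sum] at ht
    obtain ⟨k, hk⟩ := hn
    exact ⟨k - t, by omega⟩
  have hW := nd_fix hr hu.1 hm'
  have : Finite (LinearMap.ker (h.ap u - 1) ≃ₗ[K] LinearMap.ker (h.ap u - 1)) := Finite.of_injective _ DFunLike.coe_injective
  have h6 := cO_le_mul hr hu.1 hm' F (Y := IsoV (res h _ hW)) (fun x => ⟨LinearEquiv.ofInjectiveEndo
      ((h.ap x.1).restrict (fix_inv (congrArg Units.val x.2.2))) fun a b e =>
        Subtype.ext ((unE h x.1).injective (congrArg Subtype.val e)), fun v w => b_of_unit x.2.1.1 v w⟩)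
    fun x y e v hv => congrArg (fun z => (z.1 ⟨v, hv⟩ : V)) e
  rw [card_IsoV_Sp (h := res h _ hW) hS.1 (fun v => hS.2.1 v) (k := k) (by omega)] at h6
  rw [show (∑ i, μ i ^ 2 + μ 0) / 2 = 2 * k ^ 2 + k + s by rw [hs, hk, show (k + k) ^ 2 = 2 * (2 * k ^ 2) by ring]; omega, pow_add,
    mul_assoc]
  exact (Nat.mul_le_mul_right _ (h6.trans (Nat.mul_le_mul_right _ (oSp_le _ _)))).trans
    ((mul_assoc _ _ _).trans_le (Nat.mul_le_mul_left _ (h5 e ν he hν)))

/-- **orthogonal groups** -/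
theorem size_O {F : FR h.EB} {Q : QuadraticForm K V} (o : IsO h F Q) (h2 : 2 < r) (hr : (r : K) ≠ 0) {u : h.EBˣ} (hu : u ∈ F.Iso)
    (hm : u ^ r = 1) : ∃ μ : ZMod r → ℕ, Mu (Fintype.card K) (finrank K V) (u : h.EB) μ ∧
      μ 0 = finrank K (LinearMap.ker (h.ap u - 1)) ∧ (∀ i, μ (-i) = μ i) ∧ ∀ e ν : ℕ, orderOf (Fintype.card K : ZMod r) = e →
        (Even e → (Finset.univ.filter fun i => i ≠ 0 ∧ μ i ≠ 0).card / e ≤ ν) →
        cO F u * (Fintype.card K ^ (e / 2)) ^ ν * Fintype.card K ^ (if μ 0 = 2 then 1 else 0) ≤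
          (if μ 0 = 0 then 1 else 2) * Fintype.card K ^ ((∑ i, μ i ^ 2 - μ 0) / 2) * (Fintype.card K ^ (e / 2) + 1) ^ ν *
            (Fintype.card K + 1) ^ (if μ 0 = 2 then 1 else 0) := by
  have hm' : (u : h.EB) ^ r = 1 := by rw [← Units.val_pow_eq_pow_val, hm, Units.val_one]
  obtain ⟨μ, h1, h3, h4, s, hs, h5⟩ := size_bil o.1 h2 hr hu.1 hm'
  refine ⟨μ, h1, h3, h4, fun e ν he hν => ?_⟩
  have : Finite (LinearMap.ker (h.ap u - 1) ≃ₗ[K] LinearMap.ker (h.ap u - 1)) := Finite.of_injective _ DFunLike.coe_injective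
  have h6 := cO_le_mul hr hu.1 hm' F (Y := O (Q.comp (LinearMap.ker (h.ap u - 1)).subtype)) (fun x => ⟨LinearEquiv.ofInjectiveEndo
      ((h.ap x.1).restrict (fix_inv (congrArg Units.val x.2.2))) fun a b e =>
        Subtype.ext ((unE h x.1).injective (congrArg Subtype.val e)), fun v => (SB.Tor.mem_Iso_O o _).1 x.2.1 v⟩)
    fun x y e v hv => congrArg (fun z => (z.1 ⟨v, hv⟩ : V)) e
  have hQ : Nondeg (Q.comp (LinearMap.ker (h.ap u - 1)).subtype) := fun x hx => Subtype.ext (nd_fix hr hu.1 hm' x x.2 fun w hw => by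
    rw [o.2.1, QuadraticMap.polar_comm]
    exact hx ⟨w, hw⟩)
  have h7 : Nat.card (O (Q.comp (LinearMap.ker (h.ap u - 1)).subtype)) * Fintype.card K ^ (if μ 0 = 2 then 1 else 0) ≤
      (if μ 0 = 0 then 1 else 2) * Fintype.card K ^ (μ 0 * (μ 0 - 1) / 2) * (Fintype.card K + 1) ^ (if μ 0 = 2 then 1 else 0) := by
    by_cases k : μ 0 = 2
    · have h7 := card_O_two hQ (h3 ▸ k)
      simp only [k, if_true]
      norm_num
      nlinarith
    rw [if_neg k, pow_zero, pow_zero, mul_one, mul_one]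
    split_ifs with k'
    · have : Subsingleton (LinearMap.ker (h.ap u - 1)) := finrank_zero_iff.1 (h3 ▸ k')
      exact (Finite.card_le_one_iff_subsingleton.2 inferInstance).trans (by simp [k'])
    · rw [h3] at k ⊢
      exact card_O_le hQ k
  have h8 : (∑ i, μ i ^ 2 - μ 0) / 2 = μ 0 * (μ 0 - 1) / 2 + s := by
    have h8 := Nat.le_self_pow two_ne_zero (μ 0)
    rw [hs, Nat.mul_sub_one, ← sq]
    omega
  rw [h8, pow_add]
  calc _ ≤ Nat.card (O (Q.comp (LinearMap.ker (h.ap u - 1)).subtype)) * Fintype.card K ^ (if μ 0 = 2 then 1 else 0) *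
        (pU (u : h.EB) (1 - e0 h r u) * (Fintype.card K ^ (e / 2)) ^ ν) :=
        (Nat.mul_le_mul_right _ (Nat.mul_le_mul_right _ h6)).trans_eq (by ring)
    _ ≤ _ := (Nat.mul_le_mul h7 (h5 e ν he hν)).trans_eq (by ring)

/-- linear groups: the centraliser embeds in the centraliser ring -/
theorem cO_le_cA_L {n : ℕ} (F : FR (LR (Fin n) K)) (u : (LR (Fin n) K)ˣ) : cO F u ≤ cA (u : LR (Fin n) K).1 := by
  refine Nat.card_le_card_of_injective (fun x => ⟨(x.1 : LR (Fin n) K).1, congrArg (fun y : (LR (Fin n) K)ˣ => (y : LR (Fin n) K).1) x.2.2⟩)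
    fun x y e => Subtype.ext ?_
  obtain ⟨a, ha⟩ := (Iso_L F).le x.2.1
  obtain ⟨b, hb⟩ := (Iso_L F).le y.2.1
  have h3 := Subtype.mk.inj e
  rw [← ha, ← hb] at h3 ⊢
  exact congrArg _ (Units.ext h3)

/-- linear groups: the centraliser in the ring of pairs -/
theorem cA_L {n : ℕ} {u : LR (Fin n) K} (hu : u * star u = 1) : cA u = cA u.1 ^ 2 := by
  have h1 : u.1 * u.2ᵀ = 1 := congrArg Prod.fst hu
  have h2 := mul_eq_one_comm.1 h1
  have h3 : ∀ {a b x : Matrix (Fin n) (Fin n) K}, a * b = 1 → b * a = 1 → x * a = a * x → x * b = b * x := fun {a b x} k k' t => by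
    rw [← one_mul (x * b), ← k', mul_assoc, ← mul_assoc a, ← t, mul_assoc, k, mul_one]
  rw [sq, cA, cA, ← Nat.card_prod]
  refine Nat.card_congr ⟨fun x => (⟨x.1.1, congrArg Prod.fst x.2⟩, ⟨x.1.2ᵀ, h3 h2 h1 (by
      rw [← transpose_mul, ← transpose_mul]; exact congrArg (fun y => y.2ᵀ) x.2.symm)⟩),
    fun x => ⟨LR.mk x.1.1 x.2.1ᵀ, Prod.ext x.1.2 (transpose_injective (by
      show (x.2.1ᵀ * u.2)ᵀ = (u.2 * x.2.1ᵀ)ᵀ
      rw [transpose_mul, transpose_mul, transpose_transpose, h3 h1 h2 x.2.2]))⟩, fun _ => rfl, fun _ => rfl⟩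

end Cfsg.Agent.N2C.Sz
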