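import Cfsg.Agent.N2.Cl.Sz.Vec
import Cfsg.Agent.N2.Cl.Sz.Mu

/-!
# N2, size lemma: the blocks of the centraliser ring (helper96)

`abs_main` : `pU u e ^ 2 ≤ P e * pA u e` for every supermultiplicative potential `P` that pays for the unitary blocks.
-/

set_option autoImplicit false
set_option linter.unusedSectionVars false
set_option maxHeartbeats 400000

namespace Cfsg.Agent.N2C.Sz

open Cfsg Cfsg.Agent.DS.Cl Cfsg.Agent.SB.C2 Module
open Cfsg.Agent.N2C.Cyc (cA cO cU star_comm)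

variable {A : Type} [Ring A] [StarRing A] [Finite A] {K : Type} [Field K] [Fintype K]

/-- the number of unitary elements -/
noncomputable def nU (A : Type) [Ring A] [StarRing A] : ℕ := Nat.card {x : A // x * star x = 1}

theorem nU_le (F : FR A) (hL : F.L = Lmax A) : nU A ≤ Nat.card F.Iso :=
  Nat.card_le_card_of_injective (fun x => ⟨mkU x.1 x.2, P5.mem_Iso_of_max hL x.2⟩) fun _ _ e =>
    Subtype.ext (congrArg (fun y : F.Iso => ((y : Aˣ) : A)) e)

theorem nU_eps {ε : A} (hε : Eps ε) : nU A ^ 2 ≤ Nat.card A := by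
  let F : FR A := ⟨ε, Lmax A, hε.add, Or.inr rfl⟩
  rw [← card_L_sq F hε.cen (w := ε - star ε) (by
    rw [sub_mul, mul_sub, mul_sub, hε.idem, hε.ms, hε.sm, hε.st.idem, sub_zero, zero_sub, sub_neg_eq_add, hε.add])]
  exact Nat.pow_le_pow_left ((nU_le F rfl).trans (iso_le_eps F hε)) 2

/-- a star-simple ring with a skew central unit -/
theorem nU_ss (h : SS A) {z w : A} (hz : z ∈ Subring.center A) (hw : w * (z - star z) = 1) (κ : K →+* A)
    (hκ : ∀ c, κ c ∈ Subring.center A) : nU A ^ 2 ≤ Nat.card A ∨ ∃ Q j : ℕ, Q ^ 2 = Fintype.card K ^ j ∧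
      (∀ c ∈ Subring.center A, star c = c ^ Q) ∧ nU A ^ 2 * Q ^ 2 ≤ (Q + 1) ^ 2 * Nat.card A := by
  have := h.nontrivial
  by_cases hε : ∃ ε : A, Eps ε
  · exact Or.inl (nU_eps hε.choose_spec)
  have hne : star z ≠ z := fun k => by simp [k] at hw
  have hf : IsField (Subring.center A) := ⟨exists_pair_ne _, mul_comm, fun {a} ha => by
    obtain ⟨u, hu⟩ := h.isUnit_of_not_eps hε a.2 fun k => ha (Subtype.ext k)
    exact ⟨⟨(u⁻¹ : Aˣ), inv_cen (hu ▸ a.2)⟩, Subtype.ext ((congrArg (· * ((u⁻¹ : Aˣ) : A)) hu).symm.trans u.mul_inv)⟩⟩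
  let _ := hf.toField
  have := Fintype.ofFinite (Subring.center A)
  let σ : Subring.center A →+* Subring.center A :=
    { toFun := fun c => ⟨star c.1, star_cen c.2⟩
      map_one' := Subtype.ext (star_one A)
      map_mul' := fun a b => Subtype.ext ((star_mul a.1 b.1).trans (cen_comm (star_cen a.2) _))
      map_zero' := Subtype.ext (star_zero A)
      map_add' := fun a b => Subtype.ext (star_add a.1 b.1) }
  obtain ⟨Q, h1, h2⟩ := H326.CGU.exists_frobenius (σ := σ) (fun k => hne (congrArg Subtype.val (RingHom.congr_fun k ⟨z, hz⟩)))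
    fun a => Subtype.ext (star_star a.1)
  let _ : Algebra K (Subring.center A) := (κ.codRestrict _ hκ).toAlgebra
  obtain ⟨c, hc, hc1⟩ := h.exists_trace_one hz hne
  let F : FR A := ⟨c, Lmax A, hc1, Or.inr rfl⟩
  refine Or.inr ⟨Q, finrank K (Subring.center A), h1.symm.trans Module.card_eq_pow_finrank,
    fun c hc => congrArg Subtype.val (h2 ⟨c, hc⟩), ?_⟩
  rw [← card_L_sq F hz hw, ← mul_pow, ← mul_pow]
  exact Nat.pow_le_pow_left ((Nat.mul_le_mul_right Q (nU_le F rfl)).trans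
    (iso_le_nt h F hz hne (by rw [Nat.card_eq_fintype_card, h1]))) 2

/-- a symmetric idempotent in the centre of the centraliser of `u` -/
structure CI (u e : A) : Prop where
  idem : e * e = e
  st : star e = e
  cen : ∀ x, x * u = u * x → e * x = x * e

/-- the size of the block -/
noncomputable def pA (u e : A) : ℕ := Nat.card {x : A // x * u = u * x ∧ e * x = x}

/-- the number of unitary elements of the block -/
noncomputable def pU (u e : A) : ℕ := Nat.card {x : A // (x * u = u * x ∧ e * x = x) ∧ x * star x = e}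

variable {u e f g : A}

theorem CI.comm (h : CI u e) : e * u = u * e := h.cen u rfl

theorem CI.one (u : A) : CI u 1 := ⟨mul_one 1, star_one A, fun x _ => by rw [one_mul, mul_one]⟩

theorem CI.sub (he : CI u e) (hf : CI u f) (h : e * f = f) : CI u (e - f) :=
  ⟨by rw [sub_mul, mul_sub, mul_sub, he.idem, hf.idem, ← he.cen f hf.comm, h, sub_self, sub_zero], by rw [star_sub, he.st, hf.st],
    fun x hx => by rw [sub_mul, mul_sub, he.cen x hx, hf.cen x hx]⟩

theorem CI.orth (he : CI u e) (hf : CI u f) (h : e * f = f) : f * (e - f) = 0 := by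
  rw [mul_sub, ← he.cen f hf.comm, h, hf.idem, sub_self]

theorem CI.mul_comm' (he : CI u e) {x : A} (hx : x * u = u * x) : e * x * u = u * (e * x) := by
  rw [mul_assoc, hx, ← mul_assoc, he.comm, mul_assoc]

theorem pA_one (u : A) : pA u 1 = cA u := Nat.card_congr (Equiv.subtypeEquivRight fun x => and_iff_left (one_mul x))

theorem pU_one (u : A) : pU u 1 = cU u :=
  Nat.card_congr (Equiv.subtypeEquivRight fun x => and_comm.trans (and_congr_right fun _ => and_iff_left (one_mul x)))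

theorem pA_pos (u e : A) : 0 < pA u e :=
  have : Nonempty {x : A // x * u = u * x ∧ e * x = x} := ⟨⟨0, by simp⟩⟩
  Nat.card_pos

theorem two_le_pA (he : CI u e) (h0 : e ≠ 0) : 2 ≤ pA u e :=
  Finite.one_lt_card_iff_nontrivial.2 ⟨⟨e, he.comm, he.idem⟩, ⟨0, by simp⟩, fun k => h0 (Subtype.mk.inj k)⟩

theorem pA_add (he : CI u e) (hf : CI u f) (h : e * f = 0) : pA u e * pA u f ≤ pA u (e + f) := by
  have h' : f * e = 0 := by rw [← he.cen f hf.comm, h]
  have h1 : ∀ {e f : A}, e * f = 0 → ∀ {y}, f * y = y → e * y = 0 := fun k y hy => by rw [← hy, ← mul_assoc, k, zero_mul]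
  rw [pA, pA, pA, ← Nat.card_prod]
  refine Nat.card_le_card_of_injective (fun x => ⟨x.1.1 + x.2.1, by rw [add_mul, mul_add, x.1.2.1, x.2.2.1], by
    rw [add_mul, mul_add, mul_add, x.1.2.2, x.2.2.2, h1 h x.2.2.2, h1 h' x.1.2.2, add_zero, zero_add]⟩) fun x y k => ?_
  have h2 := congrArg (fun t => e * t) (Subtype.mk.inj k)
  simp only [mul_add, x.1.2.2, y.1.2.2, h1 h x.2.2.2, h1 h y.2.2.2, add_zero] at h2
  exact Prod.ext (Subtype.ext h2) (Subtype.ext (add_left_cancel (h2 ▸ Subtype.mk.inj k)))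

theorem CI.uni (he : CI u e) {x : A} (h : e * (x * star x) = e) : e * x * star (e * x) = e := by
  rw [star_mul, he.st, ← mul_assoc, mul_assoc e, h, he.idem]

theorem pU_add (he : CI u e) (hf : CI u f) (h : e * f = 0) : pU u (e + f) ≤ pU u e * pU u f := by
  have h' : f * e = 0 := by rw [← he.cen f hf.comm, h]
  rw [pU, pU, pU, ← Nat.card_prod]
  refine Nat.card_le_card_of_injective (fun x =>
    (⟨e * x.1, ⟨he.mul_comm' x.2.1.1, by rw [← mul_assoc, he.idem]⟩, he.uni (by rw [x.2.2, mul_add, he.idem, h, add_zero])⟩,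
     ⟨f * x.1, ⟨hf.mul_comm' x.2.1.1, by rw [← mul_assoc, hf.idem]⟩, hf.uni (by rw [x.2.2, mul_add, hf.idem, h', zero_add])⟩))
    fun x y k => Subtype.ext ?_
  rw [← x.2.1.2, ← y.2.1.2, add_mul, add_mul, Subtype.mk.inj (Prod.mk.inj k).1, Subtype.mk.inj (Prod.mk.inj k).2]

theorem pU_zero (u : A) : pU u 0 ≤ 1 :=
  Finite.card_le_one_iff_subsingleton.2 ⟨fun x y => Subtype.ext (by rw [← x.2.1.2, ← y.2.1.2, zero_mul, zero_mul])⟩

/-- the block -/
def blk (hu : u * star u = 1) (he : CI u e) : Blk A where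
  car :=
    { carrier := {x | x * u = u * x ∧ e * x = x}
      add_mem' := fun ha hb => ⟨by rw [add_mul, mul_add, ha.1, hb.1], by rw [mul_add, ha.2, hb.2]⟩
      zero_mem' := by simp
      mul_mem' := fun ha hb => ⟨by rw [mul_assoc, hb.1, ← mul_assoc, ha.1, mul_assoc], by rw [← mul_assoc, ha.2]⟩
      neg_mem' := fun ha => ⟨by rw [neg_mul, mul_neg, ha.1], by rw [mul_neg, ha.2]⟩ }
  e := e
  e_mem := ⟨he.comm, he.idem⟩
  e_mul _ hx := hx.2
  mul_e x hx := (he.cen x hx.1).symm.trans hx.2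
  star_mem x hx := ⟨star_comm hu (mul_eq_one_comm.1 hu) hx.1, by
    rw [← he.st, ← star_mul, ← he.cen x hx.1, hx.2]⟩

/-- a minimal block is star-simple -/
theorem ss_blk' [IsSemisimpleRing A] (hu : u * star u = 1) {m : ℕ} (hm : u ^ m = 1)
    (hm' : ∀ N, N ∣ m → ∃ k : ℕ, k • N • (1 : A) = 1) (he : CI u e) (h0 : e ≠ 0) (hi : ∀ f, CI u f → e * f = f → f = 0 ∨ f = e) : SS (blk hu he).T := by
  let G := Subgroup.zpowers (cj A (mkU u hu))
  have := Cyc.finAut (A := A)
  have := Fintype.ofFinite G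
  have hG : ∀ x, x ∈ fixR G ↔ x * u = u * x := fun x => ⟨fun k => (cj_eq_iff' (mkU u hu) x).1 (k _ (Subgroup.mem_zpowers _)), fun k g hg =>
    MulAction.mem_stabilizer_iff.1 (Subgroup.zpowers_le.2 (MulAction.mem_stabilizer_iff.2 ((cj_eq_iff' (mkU u hu) x).2 k)) hg)⟩
  obtain ⟨k, hk⟩ := hm' (Nat.card G) (by
    rw [Nat.card_zpowers]
    exact orderOf_dvd_of_pow_eq_one (by
      rw [← map_pow, show mkU u hu ^ m = 1 from Units.ext (by rw [Units.val_pow_eq_pow_val]; exact hm), map_one]))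
  refine Blk.ss_of _ h0 fun I h1 h2 h3 => ?_
  obtain ⟨ε, hε, h4⟩ : ∃ ε ∈ Ideal.span (I : Set A), ∀ x ∈ Ideal.span (I : Set A), x * ε = x := by
    obtain ⟨ε, hε, hI⟩ := IsSemisimpleRing.ideal_eq_span_idempotent (Ideal.span (I : Set A))
    refine ⟨ε, by rw [hI]; exact Ideal.mem_span_singleton_self ε, fun x hx => ?_⟩
    rw [hI] at hx
    obtain ⟨b, rfl⟩ := Ideal.mem_span_singleton'.1 hx
    rw [mul_assoc, hε.eq]
  have h2' : ∀ x ∈ I, ∀ a, a * u = u * a → a * x ∈ I := fun x hx a ha => by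
    rw [← (h1 x hx).2, ← mul_assoc, ← he.cen a ha]
    exact h2 x hx _ ⟨he.mul_comm' ha, by rw [← mul_assoc, he.idem]⟩
  have h5 : ∀ y ∈ Ideal.span (I : Set A), ∀ a, avg G k (a * y) ∈ I := by
    intro y hy
    induction hy using Submodule.span_induction with
    | mem y hy => exact fun a => by rw [avg_right ((hG y).2 (h1 y hy).1)]; exact h2' y hy _ ((hG _).1 (avg_mem a))
    | zero => exact fun a => by rw [mul_zero, map_zero]; exact I.zero_mem
    | add y z _ _ hy hz => exact fun a => by rw [mul_add, map_add]; exact I.add_mem (hy a) (hz a)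
    | smul c y _ hy => exact fun a => by rw [smul_eq_mul, ← mul_assoc]; exact hy _
  have hf : avg G k ε ∈ I := by simpa using h5 ε hε 1
  have h6 : ∀ x ∈ I, x * avg G k ε = x := fun x hx => by
    rw [← avg_left ((hG x).2 (h1 x hx).1), h4 x (Ideal.subset_span hx), avg_fix hk ((hG x).2 (h1 x hx).1)]
  generalize avg G k ε = f at hf h6
  have h7 : star f = f := by
    have h8 := congrArg star (h6 _ (h3 f hf))
    rw [star_mul, star_star, h6 _ (h3 f hf)] at h8
    exact h8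
  have h9 : ∀ b, b * u = u * b → star b * u = u * star b := fun b => star_comm hu (mul_eq_one_comm.1 hu)
  have h8 : ∀ b, b * u = u * b → f * b * f = f * b := fun b hb => h6 _ (by
    have h9 := h3 _ (h2' _ hf _ (h9 b hb))
    rwa [star_mul, star_star, h7] at h9)
  rcases hi f ⟨h6 f hf, h7, fun b hb => by
      have h9 := congrArg star (h8 _ (h9 b hb))
      simp only [star_mul, star_star, h7] at h9
      rw [← h9, ← mul_assoc, h8 b hb]⟩ (h1 f hf).2 with h9 | h9
  · exact Or.inl (eq_bot_iff.2 fun x hx => by rw [← h6 x hx, h9, mul_zero]; exact zero_mem _)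
  · exact Or.inr (show e ∈ I from h9 ▸ hf)

theorem ss_blk (hA : SS A) (hu : u * star u = 1) {m : ℕ} (hm : u ^ m = 1) (hm' : (m : A) ≠ 0) (he : CI u e)
    (h0 : e ≠ 0) (hi : ∀ f, CI u f → e * f = f → f = 0 ∨ f = e) : SS (blk hu he).T :=
  have := hA.semisimple
  ss_blk' hu hm (fun N ⟨t, ht⟩ => exists_natinv hA fun k => hm' (by rw [ht, Nat.cast_mul, k, zero_mul])) he h0 hi

theorem mul_mem_blk (hu : u * star u = 1) (hf : CI u f) {x : A} (hx : x * u = u * x) : f * x ∈ (blk hu hf).car :=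
  ⟨hf.mul_comm' hx, by rw [← mul_assoc, hf.idem]⟩

theorem cen_blk (hu : u * star u = 1) (hf : CI u f) {x : A} (hx : ∀ y, y * u = u * y → x * y = y * x) :
    (blk hu hf).mk' _ (mul_mem_blk hu hf (hx u rfl)) ∈ Subring.center (blk hu hf).T :=
  (blk hu hf).mem_center_iff.2 fun y hy => by rw [Blk.val_mk', ← mul_assoc, ← hf.cen y hy.1, mul_assoc, mul_assoc, hx y hy.1]

/-- the scalars of the block -/
def kap (hu : u * star u = 1) (hf : CI u f) (κ : K →+* A) (hκ : ∀ c, κ c ∈ Subring.center A) : K →+* (blk hu hf).T where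
  toFun c := (blk hu hf).mk' _ (mul_mem_blk hu hf (cen_comm (hκ c) u).symm)
  map_one' := (blk hu hf).val_inj (by rw [Blk.val_mk', map_one, mul_one, Blk.val_one]; rfl)
  map_mul' a b := (blk hu hf).val_inj (by
    rw [Blk.val_mul, Blk.val_mk', Blk.val_mk', Blk.val_mk', map_mul, mul_assoc, ← mul_assoc (κ a) f, ← cen_comm (hκ a) f, ← mul_assoc,
      ← mul_assoc, ← mul_assoc, hf.idem])
  map_zero' := (blk hu hf).val_inj (by rw [Blk.val_mk', map_zero, mul_zero, map_zero])
  map_add' a b := (blk hu hf).val_inj (by rw [Blk.val_mk', map_add (blk hu hf).val, Blk.val_mk', Blk.val_mk', map_add, mul_add])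

theorem kap_cen (hu : u * star u = 1) (hf : CI u f) {κ : K →+* A} (hκ : ∀ c, κ c ∈ Subring.center A) (c : K) :
    kap hu hf κ hκ c ∈ Subring.center (blk hu hf).T := cen_blk hu hf fun y _ => (cen_comm (hκ c) y).symm

theorem kap_star (hu : u * star u = 1) (hf : CI u f) {κ : K →+* A} (hκ : ∀ c, κ c ∈ Subring.center A) {c d : K} (h : star (κ c) = κ d) :
    star (kap hu hf κ hκ c) = kap hu hf κ hκ d := (blk hu hf).val_inj (by
  show star (f * κ c) = f * κ d
  rw [star_mul, hf.st, h, cen_comm (hκ _)])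

theorem nU_blk (hu : u * star u = 1) (hf : CI u f) : nU (blk hu hf).T = pU u f :=
  Nat.card_congr ⟨fun x => ⟨(blk hu hf).val x.1, (blk hu hf).val_mem x.1, congrArg (blk hu hf).val x.2⟩,
    fun x => ⟨(blk hu hf).mk' x.1 x.2.1, (blk hu hf).val_inj x.2.2⟩, fun _ => rfl, fun _ => rfl⟩

theorem card_blk (hu : u * star u = 1) (hf : CI u f) : Nat.card (blk hu hf).T = pA u f := rfl

theorem unit_blk (hu : u * star u = 1) (hf : CI u f) {z w : A} (hz : z * u = u * z) (hw : w * u = u * w) (h : f * (w * (z - star z)) = f) :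
    (blk hu hf).mk' _ (mul_mem_blk hu hf hw) * ((blk hu hf).mk' _ (mul_mem_blk hu hf hz) -
      star ((blk hu hf).mk' _ (mul_mem_blk hu hf hz))) = 1 := (blk hu hf).val_inj (by
  rw [Blk.val_mul, map_sub, Blk.val_star, Blk.val_mk', Blk.val_mk', star_mul, hf.st, ← hf.cen _ (star_comm hu (mul_eq_one_comm.1 hu) hz),
    ← mul_sub, mul_assoc, ← mul_assoc w, ← hf.cen w hw, ← mul_assoc, ← mul_assoc, hf.idem, mul_assoc, h, Blk.val_one]
  rfl)

/-- **the sharp size lemma**, abstract form -/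
theorem abs_gen (hu : u * star u = 1)
    (hss : ∀ f (hf : CI u f), f ≠ 0 → (∀ g, CI u g → f * g = g → g = 0 ∨ g = f) → SS (blk hu hf).T) (κ : K →+* A)
    (τ : K → K) (hκ : ∀ c, κ c ∈ Subring.center A) (hτ : ∀ c, star (κ c) = κ (τ c)) {z w : A} (hz : ∀ x, x * u = u * x → z * x = x * z)
    (hw : w * u = u * w) (hw' : w * (z - star z) = e) (P : A → ℚ) (h1 : ∀ f, 1 ≤ P f)
    (h2 : ∀ f g, CI u f → CI u g → f * g = 0 → P f * P g ≤ P (f + g))
    (h3 : ∀ f, CI u f → f ≠ 0 → e * f = f → ∀ Q j : ℕ, Q ^ 2 = Fintype.card K ^ j → (∀ c, τ c = c ^ Q) →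
      u ^ (Q + 1) * f = f → ((Q : ℚ) + 1) ^ 2 ≤ P f * Q ^ 2)
    (he : CI u e) (hf : CI u f) (hef : e * f = f) : (pU u f : ℚ) ^ 2 ≤ P f * pA u f := by
  induction hn : pA u f using Nat.strong_induction_on generalizing f with | _ n ih => ?_
  subst hn
  have h4 : ∀ f, (pU u f) ^ 2 ≤ pA u f → (pU u f : ℚ) ^ 2 ≤ P f * pA u f := fun f k =>
    le_trans (by exact_mod_cast k) (le_mul_of_one_le_left (Nat.cast_nonneg _) (h1 f))
  by_cases h0 : f = 0
  · exact h4 f (h0 ▸ (Nat.pow_le_pow_left (pU_zero _) 2).trans (pA_pos _ _))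
  by_cases hi : ∀ g, CI u g → f * g = g → g = 0 ∨ g = f
  · let B := blk hu hf
    have hs := hss f hf h0 hi
    have := hs.nontrivial
    have e1 := nU_blk hu hf
    have e2 := card_blk hu hf
    have hc := @mul_mem_blk _ _ _ _ _ _ hu hf
    have hd := @cen_blk _ _ _ _ _ _ hu hf
    rcases nU_ss hs (hd hz) (unit_blk hu hf (hz u rfl) hw (by rw [hw', ← he.cen f hf.comm, hef])) _ (kap_cen hu hf hκ) with
      k | ⟨Q, j, k1, k2, k3⟩
    · exact h4 f (by rwa [e1, e2] at k)
    have h5 : ∀ c, τ c = c ^ Q := fun c => (kap hu hf κ hκ).injective (by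
      rw [map_pow, ← k2 _ (kap_cen hu hf hκ c), kap_star hu hf hκ (hτ c)])
    have h6 : ∀ k, B.val (B.mk' _ (hc (x := u) rfl) ^ k) = u ^ k * f := fun k => by
      induction k with
      | zero => rw [pow_zero, pow_zero, one_mul]; rfl
      | succ k ih => rw [pow_succ, B.val_mul, ih, B.val_mk', mul_assoc, ← mul_assoc f, hf.idem, hf.comm, ← mul_assoc, pow_succ]
    have h7 := congrArg B.val (k2 _ (hd (x := u) fun _ hy => hy.symm))
    rw [h6, B.val_star, B.val_mk', star_mul, hf.st] at h7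
    have h8 := h3 f hf h0 hef Q j k1 h5 (by rw [pow_succ', mul_assoc, ← h7, ← mul_assoc, hu, one_mul])
    have h9 : (0 : ℚ) < (Q : ℚ) ^ 2 := by exact_mod_cast k1 ▸ Nat.pow_pos Fintype.card_pos
    rw [e1, e2] at k3
    refine le_of_mul_le_mul_right (le_trans (b := ((Q : ℚ) + 1) ^ 2 * pA u f) (by exact_mod_cast k3) ?_) h9
    rw [mul_right_comm]
    exact mul_le_mul_of_nonneg_right h8 (Nat.cast_nonneg _)
  push Not at hi
  obtain ⟨g, hg, k1, k2, k3⟩ := hi
  have hg' := hf.sub hg k1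
  have k4 := hf.orth hg k1
  have k5 := pA_add hg hg' k4
  have k6 := pU_add hg hg' k4
  have k7 := h2 _ _ hg hg' k4
  rw [add_sub_cancel] at k5 k6 k7
  have k8 := two_le_pA hg k2
  have k9 := two_le_pA hg' (sub_ne_zero.2 (Ne.symm k3))
  have k10 : e * g = g := by rw [← k1, ← mul_assoc, hef]
  have i1 := ih _ (by nlinarith) hg k10 rfl
  have i2 := ih _ (by nlinarith) hg' (by rw [mul_sub, hef, k10]) rfl
  calc (pU u f : ℚ) ^ 2 ≤ (pU u g : ℚ) ^ 2 * (pU u (f - g) : ℚ) ^ 2 := by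
        rw [← mul_pow]; exact_mod_cast Nat.pow_le_pow_left k6 2
    _ ≤ (P g * pA u g) * (P (f - g) * pA u (f - g)) := mul_le_mul i1 i2 (sq_nonneg _) ((sq_nonneg _).trans i1)
    _ = (P g * P (f - g)) * ((pA u g * pA u (f - g) : ℕ) : ℚ) := by push_cast; ring
    _ ≤ P f * pA u f := mul_le_mul k7 (by exact_mod_cast k5) (Nat.cast_nonneg _) (zero_le_one.trans (h1 f))

/-- **the sharp size lemma** for elements of order prime to the characteristic -/
theorem abs_main (hA : SS A) (hu : u * star u = 1) {m : ℕ} (hm : u ^ m = 1) (hm' : (m : A) ≠ 0) (κ : K →+* A)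
    (τ : K → K) (hκ : ∀ c, κ c ∈ Subring.center A) (hτ : ∀ c, star (κ c) = κ (τ c)) {z w : A} (hz : ∀ x, x * u = u * x → z * x = x * z)
    (hw : w * u = u * w) (hw' : w * (z - star z) = e) (P : A → ℚ) (h1 : ∀ f, 1 ≤ P f)
    (h2 : ∀ f g, CI u f → CI u g → f * g = 0 → P f * P g ≤ P (f + g))
    (h3 : ∀ f, CI u f → f ≠ 0 → e * f = f → ∀ Q j : ℕ, Q ^ 2 = Fintype.card K ^ j → (∀ c, τ c = c ^ Q) →
      u ^ (Q + 1) * f = f → ((Q : ℚ) + 1) ^ 2 ≤ P f * Q ^ 2)
    (he : CI u e) (hf : CI u f) (hef : e * f = f) : (pU u f : ℚ) ^ 2 ≤ P f * pA u f :=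
  abs_gen hu (fun _ => ss_blk hA hu hm hm') κ τ hκ hτ hz hw hw' P h1 h2 h3 he hf hef

end Cfsg.Agent.N2C.Sz
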